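import Groth.Agent.LocCoh.UniTor10.Poly
import Groth.Agent.LocCoh.TorProZero
import Mathlib.RingTheory.Noetherian.Nilpotent

/-!
# Uniform annihilation and uniform vanishing of high `Tor` against `A / I^q`
-/

set_option linter.all false

universe u

open CategoryTheory MonoidalCategory
open scoped TensorProduct

namespace Groth.Agent.LocCoh.UniTor10

open Tor

variable {A : Type u} [CommRing A]

/-- A free presentation. -/
theorem exists_presentation (M : ModuleCat.{u} A) : ∃ (X F : ModuleCat.{u} A) (i : X →ₗ[A] F) (q : F →ₗ[A] M),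
    Function.Injective i ∧ Module.Flat A F ∧ Function.Surjective q ∧ Function.Exact i q := by
  let q : (M →₀ A) →ₗ[A] M := Finsupp.linearCombination A (id : M → M)
  refine ⟨ModuleCat.of A (LinearMap.ker q), ModuleCat.of A (M →₀ A), (LinearMap.ker q).subtype, q,
    Subtype.val_injective, ?_, fun m => ⟨Finsupp.single m 1, by simp [q]⟩, LinearMap.exact_subtype_ker_map q⟩
  show Module.Flat A (M →₀ A)
  infer_instance

/-- High `Tor` sits naturally inside the kernel on an iterated syzygy. -/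
theorem exists_embedding : ∀ (i j : ℕ) (X F : ModuleCat.{u} A) (ι : X →ₗ[A] F), Syz j X F ι →
    ∃ (X' F' : ModuleCat.{u} A) (ι' : X' →ₗ[A] F') (θ : ∀ N : ModuleCat.{u} A, T i X N →ₗ[A] X' ⊗[A] N),
      Syz (j + i) X' F' ι' ∧ (∀ N, Function.Injective (θ N)) ∧
      (∀ (N : ModuleCat.{u} A) (y : T i X N), (tf (ModuleCat.ofHom ι) i N).hom y = 0 → ι'.rTensor N (θ N y) = 0) ∧
      (∀ {N N' : ModuleCat.{u} A} (h : N ⟶ N') (y : T i X N),
        θ N' ((ts X i h).hom y) = h.hom.lTensor X' (θ N y)) := by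
  intro i
  induction i with
  | zero =>
    intro j X F ι hι
    refine ⟨X, F, ι, fun N => (t0 X N).hom.hom, hι, fun N a b h => inj_hom (t0 X N) h, fun N y hy => ?_, fun {N N'} h y => ?_⟩
    · have h := congrArg (fun k => k.hom y) (t0_naturality_left (ModuleCat.ofHom ι) N)
      change (t0 F N).hom.hom ((tf (ModuleCat.ofHom ι) 0 N).hom y) = _ at h
      rw [hy, map_zero] at h
      exact h.symm
    · exact congrArg (fun k => k.hom y) (t0_naturality X h)
  | succ i ih =>
    intro j X F ι hι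
    obtain ⟨X₁, F₁, i₁, q, hi₁, hF₁, hq, hex⟩ := exists_presentation X
    let S : ShortComplex (ModuleCat.{u} A) :=
      ShortComplex.mk (ModuleCat.ofHom i₁) (ModuleCat.ofHom q) (ModuleCat.hom_ext hex.linearMap_comp_eq_zero)
    have hS : S.ShortExact :=
      { exact := (ShortComplex.ShortExact.moduleCat_exact_iff_function_exact _).2 hex
        mono_f := (ModuleCat.mono_iff_injective _).2 hi₁
        epi_g := (ModuleCat.epi_iff_surjective _).2 hq }
    have : Module.Flat A S.X₂ := hF₁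
    obtain ⟨X', F', ι', θ, h1, h2, h3, h4⟩ := ih (j + 1) X₁ F₁ i₁ ⟨hi₁, hF₁, X, F, ι, q, hq, hex, hι⟩
    refine ⟨X', F', ι', fun (N : ModuleCat.{u} A) => θ N ∘ₗ (torδ hS i N).hom, by rwa [show j + (i + 1) = j + 1 + i by omega],
      fun N => (h2 N).comp ((injective_iff_map_eq_zero _).2 fun y hy => δ_injective_of_flat hS i N hy),
      fun N y _ => h3 N _ ((tor_exact₁ hS i N _).2 ⟨y, rfl⟩), fun {N N'} h y => ?_⟩
    exact (congrArg (θ N') (δ_ts hS i h y)).trans (h4 h _)

/-- `Tor_{i+1}` into a kernel on an `i`-step syzygy. -/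
theorem exists_embedding_succ (i : ℕ) (M : ModuleCat.{u} A) :
    ∃ (X F : ModuleCat.{u} A) (ι : X →ₗ[A] F) (θ : ∀ N : ModuleCat.{u} A, T (i + 1) M N →ₗ[A] X ⊗[A] N),
      Syz i X F ι ∧ (∀ N, Function.Injective (θ N)) ∧ (∀ (N : ModuleCat.{u} A) (y : T (i + 1) M N), ι.rTensor N (θ N y) = 0) ∧
      (∀ {N N' : ModuleCat.{u} A} (h : N ⟶ N') (y : T (i + 1) M N),
        θ N' ((ts M (i + 1) h).hom y) = h.hom.lTensor X (θ N y)) := by
  obtain ⟨X₁, F₁, i₁, q, hi₁, hF₁, hq, hex⟩ := exists_presentation M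
  let S : ShortComplex (ModuleCat.{u} A) :=
    ShortComplex.mk (ModuleCat.ofHom i₁) (ModuleCat.ofHom q) (ModuleCat.hom_ext hex.linearMap_comp_eq_zero)
  have hS : S.ShortExact :=
    { exact := (ShortComplex.ShortExact.moduleCat_exact_iff_function_exact _).2 hex
      mono_f := (ModuleCat.mono_iff_injective _).2 hi₁
      epi_g := (ModuleCat.epi_iff_surjective _).2 hq }
  have : Module.Flat A S.X₂ := hF₁
  obtain ⟨X', F', ι', θ, h1, h2, h3, h4⟩ := exists_embedding i 0 X₁ F₁ i₁ ⟨hi₁, hF₁⟩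
  refine ⟨X', F', ι', fun (N : ModuleCat.{u} A) => θ N ∘ₗ (torδ hS i N).hom, by simpa using h1,
    fun N => (h2 N).comp ((injective_iff_map_eq_zero _).2 fun y hy => δ_injective_of_flat hS i N hy),
    fun N y => h3 N _ ((tor_exact₁ hS i N _).2 ⟨y, rfl⟩), fun {N N'} h y => ?_⟩
  exact (congrArg (θ N') (δ_ts hS i h y)).trans (h4 h _)

theorem smul_eq_zero_of_null {i j : ℕ} (hj : j ≤ i) {N : ModuleCat.{u} A} {a : A}
    (h : Null j (a • (LinearMap.id : N →ₗ[A] N))) (M : ModuleCat.{u} A) (y : T (i + 1) M N) : a • y = 0 := by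
  obtain ⟨X, F, ι, θ, h1, h2, h3, -⟩ := exists_embedding_succ i M
  apply h2 N
  have := h.mono hj X F ι h1 _ (h3 N y)
  rw [LinearMap.lTensor_smul, LinearMap.lTensor_id, LinearMap.smul_apply, LinearMap.id_apply] at this
  rw [map_smul, map_zero]
  exact this

theorem ts_eq_zero_of_null {i j : ℕ} (hj : j ≤ i) {N N' : ModuleCat.{u} A} (g : N ⟶ N')
    (h : Null j g.hom) (M : ModuleCat.{u} A) : ts M (i + 1) g = 0 := by
  obtain ⟨X, F, ι, θ, h1, h2, h3, h4⟩ := exists_embedding_succ i M
  refine ModuleCat.hom_ext (LinearMap.ext fun y => h2 N' ?_)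
  rw [h4]
  exact (h.mono hj X F ι h1 _ (h3 N y)).trans (map_zero (θ N')).symm

variable [IsNoetherianRing A] {t : ℕ} (x : Fin t → A)

open MvPolynomial

/-- the first generator, to a uniform power, kills on syzygies -/
theorem exists_null_smul (ht : 0 < t) : ∃ N : ℕ, ∀ q,
    Null t ((x ⟨0, ht⟩) ^ N • (LinearMap.id : (A ⧸ Ideal.span (Set.range x) ^ q) →ₗ[A] _)) := by
  obtain ⟨c, hc⟩ := exists_artinRees x
  refine ⟨c * (2 ^ t - 1), fun q => ?_⟩
  let a := (x ⟨0, ht⟩) ^ c
  let s : ∀ k q, W x k q →ₗ[A] W x k (id q) := fun k q => a • LinearMap.id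
  have hn := null_family x s (fun k q f => LinearMap.ext fun w => by simp [s])
    (fun k q => LinearMap.ext fun w => by simp [s]) (fun k hk q p hp => by
      show a • (Submodule.Quotient.mk p : W x k q) = 0
      rw [← Submodule.Quotient.mk_smul, Submodule.Quotient.mk_eq_zero]
      show a • p ∈ K x k q
      rw [MvPolynomial.smul_eq_C_mul, show (C a : MvPolynomial (Fin t) A) = C (x ⟨0, ht⟩) ^ c from map_pow _ _ _]
      exact ann_smul x hc hk q hp) t le_rfl q
  have hit : ∀ (e : ℕ) (n : ℕ) (w : W x t n), HEq (it id (fun n => W x t n) (s t) e n w) (a ^ e • w) := by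
    intro e
    induction e with
    | zero => intro n w; rw [pow_zero, one_smul]; rfl
    | succ e ih =>
      intro n w
      rw [pow_succ, mul_smul]
      exact ih n (a • w)
  have hn' : Null t (a ^ (2 ^ t - 1) • (LinearMap.id : W x t q →ₗ[A] W x t q)) :=
    null_cast (W := fun n => W x t n) (congrFun (Function.iterate_id _) q) _ _ (fun w => hit _ q w) hn
  let e := LinearEquiv.ofBijective (toW x q) ⟨toW_injective x q, toW_surjective x q⟩
  have := (hn'.precomp e.toLinearMap).comp e.symm.toLinearMap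
  rw [LinearMap.smul_comp, LinearMap.comp_smul, LinearMap.id_comp, e.symm_comp, ← pow_mul] at this
  exact this

/-- the projections to much smaller powers vanish on syzygies -/
theorem exists_null_proj : ∃ c : ℕ, ∀ n, Null t
    (Submodule.mapQ (Ideal.span (Set.range x) ^ n) (Ideal.span (Set.range x) ^ (n - c)) LinearMap.id
      (Ideal.pow_le_pow_right (Nat.sub_le n c))) := by
  obtain ⟨c, hc⟩ := exists_artinRees x
  refine ⟨(2 ^ t - 1) * c, fun n => ?_⟩
  let s : ∀ k q, W x k q →ₗ[A] W x k (q - c) := fun k q =>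
    Submodule.mapQ _ _ LinearMap.id (K_mono x k (Nat.sub_le q c))
  have hn := null_family x (σ := fun q => q - c) s
    (fun k q f => Submodule.linearMap_qext _ (LinearMap.ext fun p => by
      simp only [LinearMap.comp_apply, Submodule.mkQ_apply, s, mulW, Submodule.mapQ_apply, LinearMap.id_apply]))
    (fun k q => Submodule.linearMap_qext _ (LinearMap.ext fun p => by
      simp only [LinearMap.comp_apply, Submodule.mkQ_apply, s, projW, Submodule.mapQ_apply, LinearMap.id_apply]))
    (fun k hk q p hp => (Submodule.Quotient.mk_eq_zero _).2 (ann_zero x hc hk q hp)) t le_rfl n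
  have hmk : ∀ (p : MvPolynomial (Fin t) A) {q q' : ℕ}, q = q' →
      HEq (Submodule.Quotient.mk p : W x t q) (Submodule.Quotient.mk p : W x t q') := fun p q q' h => by subst h; rfl
  have hit : ∀ (e : ℕ) (n : ℕ) (p : MvPolynomial (Fin t) A),
      HEq (it (fun q => q - c) (fun n => W x t n) (s t) e n (Submodule.Quotient.mk p))
        (Submodule.Quotient.mk p : W x t (n - e * c)) := by
    intro e
    induction e with
    | zero => intro n p; exact hmk p (by simp)
    | succ e ih =>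
      intro n p
      exact (ih (n - c) p).trans (hmk p (by rw [Nat.succ_mul]; omega))
  have hidx : ∀ (e n : ℕ), (fun q => q - c)^[e] n = n - e * c := by
    intro e
    induction e with
    | zero => intro n; simp
    | succ e ih => intro n; rw [Function.iterate_succ_apply, ih, Nat.succ_mul]; omega
  let pr : W x t n →ₗ[A] W x t (n - (2 ^ t - 1) * c) := Submodule.mapQ _ _ LinearMap.id (K_mono x t (Nat.sub_le _ _))
  have hn' : Null t pr := null_cast (W := fun n => W x t n) (hidx _ n) _ pr (fun w => by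
    obtain ⟨p, rfl⟩ := Submodule.Quotient.mk_surjective _ w
    exact hit _ n p) hn
  generalize hd : (2 ^ t - 1) * c = d at pr hn' ⊢
  obtain ⟨e, he⟩ : ∃ e : (A ⧸ Ideal.span (Set.range x) ^ (n - d)) ≃ₗ[A] W x t (n - d), e.toLinearMap = toW x (n - d) :=
    ⟨LinearEquiv.ofBijective (toW x (n - d)) ⟨toW_injective x _, toW_surjective x _⟩, rfl⟩
  intro X F ι hι z hz
  have h0 := (hn'.precomp (toW x n)).comp e.symm.toLinearMap X F ι hι z hz
  have heq : e.symm.toLinearMap ∘ₗ (pr ∘ₗ toW x n) = Submodule.mapQ (Ideal.span (Set.range x) ^ n)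
      (Ideal.span (Set.range x) ^ (n - d)) LinearMap.id (Ideal.pow_le_pow_right (Nat.sub_le n d)) := by
    refine Submodule.linearMap_qext _ (LinearMap.ext fun r => ?_)
    show e.symm (pr (toW x n (Submodule.Quotient.mk r))) = Submodule.Quotient.mk r
    rw [LinearEquiv.symm_apply_eq]
    show pr (toW x n (Submodule.Quotient.mk r)) = e.toLinearMap (Submodule.Quotient.mk r)
    rw [he]
    simp only [pr, toW, Submodule.mapQ_apply, LinearMap.id_apply]
  rw [← heq]
  exact h0

/-- S1739 -/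
theorem exists_uniform_kill (I : Ideal A) (t : ℕ) (s : Finset A) (hs : I = Ideal.span (s : Set A)) (ht : s.card ≤ t) :
    ∃ c : ℕ, ∀ (M : ModuleCat.{u} A) (i q : ℕ), t < i → ∀ a ∈ I ^ c,
      ∀ y : T i M (ModuleCat.of A (A ⧸ I ^ q)), a • y = 0 := by
  classical
  let x : Fin s.card → A := fun i => (s.equivFin.symm i).1
  have hx : Set.range x = (s : Set A) := by
    ext a
    exact ⟨fun ⟨i, hi⟩ => hi ▸ (s.equivFin.symm i).2, fun ha => ⟨s.equivFin ⟨a, ha⟩, by simp [x]⟩⟩
  have hgen : ∀ i : Fin s.card, ∃ N : ℕ, ∀ q, Null s.card ((x i) ^ N • (LinearMap.id : (A ⧸ I ^ q) →ₗ[A] _)) := by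
    intro i
    have h0 : 0 < s.card := i.pos
    let y : Fin s.card → A := x ∘ Equiv.swap i ⟨0, h0⟩
    obtain ⟨N, hN⟩ := exists_null_smul y h0
    have hy : Ideal.span (Set.range y) = I := by rw [EquivLike.range_comp, hx, hs]
    have hy0 : y ⟨0, h0⟩ = x i := by simp [y]
    rw [hy, hy0] at hN
    exact ⟨N, hN⟩
  choose N hN using hgen
  have hle : I ≤ (Ideal.span (Set.range fun i => (x i) ^ (N i))).radical := by
    rw [hs, ← hx, Ideal.span_le]
    rintro _ ⟨i, rfl⟩
    exact ⟨N i, Ideal.subset_span ⟨i, rfl⟩⟩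
  obtain ⟨c, hc⟩ := Ideal.exists_pow_le_of_le_radical_of_fg hle (IsNoetherian.noetherian I)
  refine ⟨c, fun M i q hi a ha y => ?_⟩
  obtain ⟨i, rfl⟩ : ∃ k, i = k + 1 := ⟨i - 1, by omega⟩
  refine Submodule.span_induction ?_ (zero_smul A y) (fun a b _ _ h1 h2 => by rw [add_smul, h1, h2, add_zero])
    (fun r a _ h => by rw [smul_eq_mul, mul_smul, h, smul_zero]) (hc ha)
  rintro _ ⟨k, rfl⟩
  exact smul_eq_zero_of_null (N := ModuleCat.of A (A ⧸ I ^ q)) (show s.card ≤ i by omega) (hN k q) M y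

/-- S0361 -/
theorem exists_uniform_zero (I : Ideal A) (t : ℕ) (s : Finset A) (hs : I = Ideal.span (s : Set A)) (ht : s.card ≤ t) :
    ∃ c : ℕ, ∀ (M : ModuleCat.{u} A) (n : ℕ),
      ts M (t + 1) (N := ModuleCat.of A (A ⧸ I ^ n)) (N' := ModuleCat.of A (A ⧸ I ^ (n - c)))
        (ModuleCat.ofHom (Submodule.mapQ (I ^ n) (I ^ (n - c)) LinearMap.id
          (Ideal.pow_le_pow_right (Nat.sub_le n c)))) = 0 := by
  classical
  let x : Fin s.card → A := fun i => (s.equivFin.symm i).1
  have hx : I = Ideal.span (Set.range x) := by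
    rw [hs]; congr 1
    ext a
    exact ⟨fun ha => ⟨s.equivFin ⟨a, ha⟩, by simp [x]⟩, fun ⟨i, hi⟩ => hi ▸ (s.equivFin.symm i).2⟩
  subst hx
  obtain ⟨c, hc⟩ := exists_null_proj x
  exact ⟨c, fun M n => ts_eq_zero_of_null ht _ (hc n) M⟩

end Groth.Agent.LocCoh.UniTor10
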