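import Groth.Agent.LocCoh.TorKill

/-!
# Maps killed on iterated syzygies

`Null j f` says that `f : N → N'` kills, for every `j`-step syzygy `X → F` inside a flat module, the kernel of
`X ⊗ N → F ⊗ N`.  This is closed under passing to cokernels, raising `j`, and detects maps vanishing on high `Tor`.
-/

set_option linter.all false

universe u

open CategoryTheory
open scoped TensorProduct

namespace Groth.Agent.LocCoh.UniTor10

variable {A : Type u} [CommRing A]

/-- `ι : X → F` is the first step of an exact sequence `0 → X → F → G₁ → ⋯ → G_j` of flat modules. -/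
def Syz : ℕ → ∀ (X F : ModuleCat.{u} A), (X →ₗ[A] F) → Prop
  | 0, _, F, ι => Function.Injective ι ∧ Module.Flat A F
  | j + 1, _, F, ι => Function.Injective ι ∧ Module.Flat A F ∧
      ∃ (Y G : ModuleCat.{u} A) (g : Y →ₗ[A] G) (q : F →ₗ[A] Y),
        Function.Surjective q ∧ Function.Exact ι q ∧ Syz j Y G g

theorem Syz.pred : ∀ {j : ℕ} {X F : ModuleCat.{u} A} {ι : X →ₗ[A] F}, Syz (j + 1) X F ι → Syz j X F ι := by
  intro j
  induction j with
  | zero => rintro X F ι ⟨h, hF, -⟩; exact ⟨h, hF⟩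
  | succ j ih => rintro X F ι ⟨h, hF, Y, G, g, q, hq, hex, hg⟩; exact ⟨h, hF, Y, G, g, q, hq, hex, ih hg⟩

theorem Syz.mono {j : ℕ} {X F : ModuleCat.{u} A} {ι : X →ₗ[A] F} :
    ∀ {k : ℕ}, Syz (j + k) X F ι → Syz j X F ι
  | 0, h => h
  | k + 1, h => Syz.mono (k := k) (Syz.pred h)

theorem Syz.flat {j : ℕ} {X F : ModuleCat.{u} A} {ι : X →ₗ[A] F} (h : Syz j X F ι) : Module.Flat A F := by
  cases j with
  | zero => exact h.2
  | succ j => exact h.2.1

theorem Syz.inj {j : ℕ} {X F : ModuleCat.{u} A} {ι : X →ₗ[A] F} (h : Syz j X F ι) : Function.Injective ι := by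
  cases j with
  | zero => exact h.1
  | succ j => exact h.1

variable {N N' N'' : Type u} [AddCommGroup N] [Module A N] [AddCommGroup N'] [Module A N'] [AddCommGroup N'']
  [Module A N'']

/-- `f` kills the kernel of `X ⊗ N → F ⊗ N` for every `j`-step syzygy. -/
def Null (j : ℕ) (f : N →ₗ[A] N') : Prop :=
  ∀ (X F : ModuleCat.{u} A) (ι : X →ₗ[A] F), Syz j X F ι → ∀ z : X ⊗[A] N,
    ι.rTensor N z = 0 → f.lTensor X z = 0

theorem lTensor_rTensor {X F : Type u} [AddCommGroup X] [Module A X] [AddCommGroup F] [Module A F]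
    (ι : X →ₗ[A] F) (f : N →ₗ[A] N') (z : X ⊗[A] N) :
    ι.rTensor N' (f.lTensor X z) = f.lTensor F (ι.rTensor N z) := by
  rw [← LinearMap.comp_apply (f := ι.rTensor N'), LinearMap.rTensor_comp_lTensor,
    ← LinearMap.lTensor_comp_rTensor, LinearMap.comp_apply]

theorem Null.mono {j k : ℕ} {f : N →ₗ[A] N'} (h : Null j f) (hk : j ≤ k) : Null k f := by
  obtain ⟨m, rfl⟩ := Nat.exists_eq_add_of_le hk
  exact fun X F ι hι => h X F ι hι.mono

theorem Null.comp {j : ℕ} {f : N →ₗ[A] N'} (h : Null j f) (g : N' →ₗ[A] N'') : Null j (g ∘ₗ f) :=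
  fun X F ι hι z hz => by rw [LinearMap.lTensor_comp, LinearMap.comp_apply, h X F ι hι z hz, map_zero]

theorem Null.precomp {j : ℕ} {f : N' →ₗ[A] N''} (h : Null j f) (g : N →ₗ[A] N') : Null j (f ∘ₗ g) :=
  fun X F ι hι z hz => by
    rw [LinearMap.lTensor_comp, LinearMap.comp_apply]
    exact h X F ι hι _ (by rw [lTensor_rTensor, hz, map_zero])

theorem null_of_flat {j : ℕ} [Module.Flat A N] (f : N →ₗ[A] N') : Null j f := fun X F ι hι z hz => by
  have : z = 0 := Module.Flat.rTensor_preserves_injective_linearMap (M := N) ι hι.inj (hz.trans (map_zero _).symm)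
  rw [this, map_zero]

/-- The cokernel step. -/
theorem Null.coker {j : ℕ} {B P H B' P' H' P'' H'' : Type u}
    [AddCommGroup B] [Module A B] [AddCommGroup P] [Module A P] [AddCommGroup H] [Module A H]
    [AddCommGroup B'] [Module A B'] [AddCommGroup P'] [Module A P'] [AddCommGroup H'] [Module A H']
    [AddCommGroup P''] [Module A P''] [AddCommGroup H''] [Module A H'']
    {b : B →ₗ[A] P} (hb : Function.Injective b) {p : P →ₗ[A] H} (hp : Function.Surjective p)
    (hex : Function.Exact b p) {b' : B' →ₗ[A] P'} {p' : P' →ₗ[A] H'} {p'' : P'' →ₗ[A] H''}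
    {r : B →ₗ[A] B'} {f : P →ₗ[A] P'} {h : H →ₗ[A] H'} {g : P' →ₗ[A] P''} {h' : H' →ₗ[A] H''}
    (h1 : f ∘ₗ b = b' ∘ₗ r) (h2 : p' ∘ₗ f = h ∘ₗ p) (h3 : p'' ∘ₗ g = h' ∘ₗ p') (h4 : p' ∘ₗ b' = 0)
    (hr : Null j r) (hg : Null (j + 1) g) : Null (j + 1) (h' ∘ₗ h) := by
  intro X F ι hι z hz
  obtain ⟨-, -, Y, G, γ, q, hq, hXF, hγ⟩ := id hι
  obtain ⟨w, rfl⟩ := LinearMap.lTensor_surjective X hp z
  rw [lTensor_rTensor] at hz
  obtain ⟨v, hv⟩ := (lTensor_exact F hex hp (ι.rTensor P w)).1 hz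
  have := hγ.flat
  have hker : γ.rTensor B (q.rTensor B v) = 0 := by
    refine Module.Flat.lTensor_preserves_injective_linearMap (M := G) b hb ?_
    rw [map_zero, ← lTensor_rTensor γ b, ← lTensor_rTensor q b, hv, ← LinearMap.comp_apply (f := q.rTensor P),
      ← LinearMap.rTensor_comp, hXF.linearMap_comp_eq_zero, LinearMap.rTensor_zero, LinearMap.zero_apply, map_zero]
  have hrv : q.rTensor B' (r.lTensor F v) = 0 := by
    rw [lTensor_rTensor]
    exact hr Y G γ hγ _ hker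
  obtain ⟨u, hu⟩ := (rTensor_exact B' hXF hq (r.lTensor F v)).1 hrv
  have hw' : ι.rTensor P' (f.lTensor X w - b'.lTensor X u) = 0 := by
    rw [map_sub, lTensor_rTensor, lTensor_rTensor, ← hv, hu, ← LinearMap.comp_apply (f := f.lTensor F),
      ← LinearMap.lTensor_comp, h1, LinearMap.lTensor_comp, LinearMap.comp_apply, sub_self]
  have h0 := hg X F ι hι _ hw'
  rw [map_sub, sub_eq_zero] at h0
  rw [← LinearMap.comp_apply (f := (h' ∘ₗ h).lTensor X), ← LinearMap.lTensor_comp, LinearMap.comp_assoc, ← h2,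
    ← LinearMap.comp_assoc, ← h3, LinearMap.comp_assoc, LinearMap.lTensor_comp, LinearMap.lTensor_comp]
  show p''.lTensor X (g.lTensor X (f.lTensor X w)) = 0
  rw [h0, ← LinearMap.comp_apply (f := p''.lTensor X), ← LinearMap.lTensor_comp, h3, LinearMap.lTensor_comp,
    LinearMap.comp_apply, ← LinearMap.comp_apply (f := p'.lTensor X), ← LinearMap.lTensor_comp, h4,
    LinearMap.lTensor_zero, LinearMap.zero_apply, map_zero]

section Iterate

variable {ι : Type} (σ : ι → ι) (W : ι → Type u) [∀ n, AddCommGroup (W n)] [∀ n, Module A (W n)]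
  (s : ∀ n, W n →ₗ[A] W (σ n))

/-- iterated transition map -/
def it : ∀ (e : ℕ) (n : ι), W n →ₗ[A] W (σ^[e] n)
  | 0, _ => LinearMap.id
  | e + 1, n => it e (σ n) ∘ₗ s n

theorem it_nat {W' : ι → Type u} [∀ n, AddCommGroup (W' n)] [∀ n, Module A (W' n)]
    {s' : ∀ n, W' n →ₗ[A] W' (σ n)} (φ : ∀ n, W n →ₗ[A] W' n) (h : ∀ n, φ (σ n) ∘ₗ s n = s' n ∘ₗ φ n) :
    ∀ (e : ℕ) (n : ι) (x : W n), φ (σ^[e] n) (it σ W s e n x) = it σ W' s' e n (φ n x)
  | 0, n, x => rfl
  | e + 1, n, x => by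
    show φ _ (it σ W s e (σ n) (s n x)) = it σ W' s' e (σ n) (s' n (φ n x))
    rw [it_nat φ h e (σ n)]
    exact congrArg (it σ W' s' e (σ n)) (LinearMap.congr_fun (h n) x)

theorem it_add : ∀ (a b : ℕ) (n : ι) (x : W n),
    HEq (it σ W s b (σ^[a] n) (it σ W s a n x)) (it σ W s (a + b) n x)
  | 0, b, n, x => by rw [Nat.zero_add]; rfl
  | a + 1, b, n, x => by
    rw [Nat.succ_add]
    exact it_add a b (σ n) (s n x)

theorem null_cast {j : ℕ} {N : Type u} [AddCommGroup N] [Module A N] {m m' : ι} (h : m = m')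
    (f : N →ₗ[A] W m) (f' : N →ₗ[A] W m') (hf : ∀ x, HEq (f x) (f' x)) (hn : Null j f) : Null j f' := by
  subst h
  rwa [← LinearMap.ext fun x => eq_of_heq (hf x)]

variable {W' : ι → Type u} [∀ n, AddCommGroup (W' n)] [∀ n, Module A (W' n)]
  (s' : ∀ n, W' n →ₗ[A] W' (σ n)) (z : ∀ n, W n →ₗ[A] W n) (π : ∀ n, W n →ₗ[A] W' n)

/-- Passing to the cokernel of an endomorphism whose kernel is killed by the transition maps. -/
theorem null_it_coker {j e : ℕ} (hsz : ∀ n, z (σ n) ∘ₗ s n = s n ∘ₗ z n)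
    (hπs : ∀ n, π (σ n) ∘ₗ s n = s' n ∘ₗ π n) (hπ : ∀ n, Function.Surjective (π n))
    (hex : ∀ n, Function.Exact (z n) (π n)) (hann : ∀ n x, z n x = 0 → s n x = 0)
    (hW : ∀ n, Null j (it σ W s e n)) (hW1 : ∀ n, Null (j + 1) (it σ W s e n)) (n : ι) :
    Null (j + 1) (it σ W' s' ((e + 1) + e) n) := by
  let B : ι → Type u := fun n => LinearMap.range (z n)
  let hmap : LinearMap.range (z n) →ₗ[A] W (σ n) :=
    (Submodule.liftQ (LinearMap.ker (z n)) (s n) (fun x hx => hann n x hx)) ∘ₗ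
      (z n).quotKerEquivRange.symm.toLinearMap
  have hmap_apply : ∀ x : W n, hmap ⟨z n x, LinearMap.mem_range_self _ x⟩ = s n x := fun x => by
    show Submodule.liftQ (LinearMap.ker (z n)) (s n) (fun x hx => hann n x hx) ((z n).quotKerEquivRange.symm ⟨z n x, _⟩) = _
    rw [LinearMap.quotKerEquivRange_symm_apply_image]
    rfl
  let m := σ^[e + 1] n
  let r : LinearMap.range (z n) →ₗ[A] LinearMap.range (z m) :=
    (z m).rangeRestrict ∘ₗ (it σ W s e (σ n) ∘ₗ hmap)
  have hr : Null j r := ((hW (σ n)).precomp hmap).comp _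
  have h1 : it σ W s (e + 1) n ∘ₗ (LinearMap.range (z n)).subtype = (LinearMap.range (z m)).subtype ∘ₗ r := by
    refine LinearMap.ext fun y => ?_
    obtain ⟨_, x, rfl⟩ := y
    show it σ W s e (σ n) (s n (z n x)) = z m (it σ W s e (σ n) (hmap ⟨z n x, _⟩))
    rw [hmap_apply]
    exact (congrArg (it σ W s e (σ n)) (LinearMap.congr_fun (hsz n) x).symm).trans
      (it_nat σ W s z hsz e (σ n) (s n x)).symm
  have key : Null (j + 1) (it σ W' s' e m ∘ₗ it σ W' s' (e + 1) n) := by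
    refine Null.coker (LinearMap.range (z n)).injective_subtype (hπ n) ?_ h1
      (LinearMap.ext fun x => it_nat σ W s π hπs (e + 1) n x)
      (LinearMap.ext fun x => it_nat σ W s π hπs e m x) ?_ hr (hW1 m)
    · intro y
      rw [(hex n y)]
      exact ⟨fun ⟨x, hx⟩ => ⟨⟨y, x, hx⟩, rfl⟩, fun ⟨⟨_, x, hx⟩, h⟩ => ⟨x, hx.trans h⟩⟩
    · refine LinearMap.ext fun y => ?_
      obtain ⟨_, x, rfl⟩ := y
      exact (hex m _).2 ⟨x, rfl⟩
  exact null_cast W' (by show σ^[e] (σ^[e + 1] n) = _; rw [← Function.iterate_add_apply, add_comm e])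
    _ _ (fun x => it_add σ W' s' (e + 1) e n x) key

end Iterate

section Chain

/-- Iterating the cokernel step along a chain of families. -/
theorem null_chain {σ : ℕ → ℕ} (t : ℕ) (W : ℕ → ℕ → Type u) [∀ k n, AddCommGroup (W k n)] [∀ k n, Module A (W k n)]
    (s : ∀ k n, W k n →ₗ[A] W k (σ n)) (z : ∀ k n, W k n →ₗ[A] W k n) (π : ∀ k n, W k n →ₗ[A] W (k + 1) n)
    (hflat : ∀ n, Module.Flat A (W 0 n))
    (hsz : ∀ k < t, ∀ n, z k (σ n) ∘ₗ s k n = s k n ∘ₗ z k n)
    (hπs : ∀ k < t, ∀ n, π k (σ n) ∘ₗ s k n = s (k + 1) n ∘ₗ π k n)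
    (hπ : ∀ k < t, ∀ n, Function.Surjective (π k n))
    (hex : ∀ k < t, ∀ n, Function.Exact (z k n) (π k n))
    (hann : ∀ k < t, ∀ n x, z k n x = 0 → s k n x = 0) :
    ∀ k ≤ t, ∀ j, k ≤ j → ∀ n, Null j (it σ (W k) (s k) (2 ^ k - 1) n) := by
  intro k
  induction k with
  | zero => intro _ j _ n; haveI := hflat n; exact null_of_flat _
  | succ k ih =>
    intro hk j hj n
    obtain ⟨j, rfl⟩ : ∃ i, j = i + 1 := ⟨j - 1, by omega⟩
    have hsucc : 2 ^ (k + 1) - 1 = (2 ^ k - 1 + 1) + (2 ^ k - 1) := by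
      have := Nat.one_le_two_pow (n := k); rw [pow_succ]; omega
    rw [hsucc]
    exact null_it_coker σ (W k) (s k) (s (k + 1)) (z k) (π k) (hsz k (by omega)) (hπs k (by omega))
      (hπ k (by omega)) (hex k (by omega)) (hann k (by omega)) (ih (by omega) j (by omega))
      (ih (by omega) (j + 1) (by omega)) n

end Chain

end Groth.Agent.LocCoh.UniTor10
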