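import Groth.Agent.LocCoh.UniTor10.Null
import Mathlib.RingTheory.MvPolynomial.Ideal
import Mathlib.RingTheory.Filtration
import Mathlib.RingTheory.Polynomial.Basic
import Mathlib.RingTheory.Flat.Basic

/-!
# The quotients `A[y]/((y)^q + (y₁ - x₁, …, y_k - x_k))`
-/

set_option linter.all false

universe u

open CategoryTheory
open scoped TensorProduct

namespace Groth.Agent.LocCoh.UniTor10

open MvPolynomial

variable {A : Type u} [CommRing A] {t : ℕ} (x : Fin t → A)

local notation "S" => MvPolynomial (Fin t) A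
local notation "m" => idealOfVars (Fin t) A

/-- the relations `y_i - x_i`, `i < k` -/
noncomputable def J (k : ℕ) : Ideal S := Ideal.span ((fun i => X i - C (x i)) '' {i | (i : ℕ) < k})

theorem J_zero : J x 0 = ⊥ := by simp [J]

theorem mem_J {k : ℕ} {i : Fin t} (hi : (i : ℕ) < k) : X i - C (x i) ∈ J x k :=
  Ideal.subset_span ⟨i, hi, rfl⟩

theorem J_succ {k : ℕ} (hk : k < t) : J x (k + 1) = J x k ⊔ Ideal.span {X ⟨k, hk⟩ - C (x ⟨k, hk⟩)} := by
  rw [J, J, ← Ideal.span_union]
  congr 1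
  have : {i : Fin t | (i : ℕ) < k + 1} = {i : Fin t | (i : ℕ) < k} ∪ {⟨k, hk⟩} := by
    ext i; simp [Fin.ext_iff]; omega
  rw [this, Set.image_union, Set.image_singleton]

/-- substitute `x_i` for the first `k` variables -/
noncomputable def sub (k : ℕ) : S →ₐ[A] S := aeval fun i => if (i : ℕ) < k then C (x i) else X i

theorem sub_sub_mem (k : ℕ) (p : S) : p - sub x k p ∈ J x k := by
  induction p using MvPolynomial.induction_on with
  | C c => simp [sub]
  | add p q hp hq => rw [map_add, add_sub_add_comm]; exact add_mem hp hq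
  | mul_X p i hp =>
    have hi : X i - sub x k (X i) ∈ J x k := by
      simp only [sub, aeval_X]
      split_ifs with h
      · exact mem_J x h
      · simp
    have : p * X i - sub x k (p * X i) = (p - sub x k p) * X i + sub x k p * (X i - sub x k (X i)) := by
      rw [map_mul]; ring
    rw [this]
    exact add_mem (Ideal.mul_mem_right _ _ hp) (Ideal.mul_mem_left _ _ hi)

theorem sub_J {k : ℕ} {p : S} (hp : p ∈ J x k) : sub x k p = 0 := by
  refine (Ideal.span_le.2 ?_ : J x k ≤ RingHom.ker (sub x k)) hp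
  rintro _ ⟨i, hi, rfl⟩
  rw [SetLike.mem_coe, RingHom.mem_ker]
  simp [sub, if_pos (show (i : ℕ) < k from hi)]

theorem eq_zero_of_sub_mul (i : Fin t) {r : S} (h : (X i - C (x i)) * r = 0) : r = 0 := by
  let τ : S →ₐ[A] S := aeval fun j => X j + C (x j)
  let τ' : S →ₐ[A] S := aeval fun j => X j - C (x j)
  have hid : τ'.comp τ = AlgHom.id A S := MvPolynomial.algHom_ext fun j => by simp [τ, τ']
  have hz : X i * τ r = 0 := by
    have := congrArg τ h
    rw [map_mul, map_zero] at this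
    simpa [τ] using this
  have h1 : τ r = 0 := (MvPolynomial.isRegular_X (n := i)).left (hz.trans (mul_zero _).symm)
  calc r = τ' (τ r) := (AlgHom.congr_fun hid r).symm
    _ = 0 := by rw [h1, map_zero]

theorem mem_J_of_mul {k : ℕ} (hk : k < t) {p : S} (h : (X ⟨k, hk⟩ - C (x ⟨k, hk⟩)) * p ∈ J x k) : p ∈ J x k := by
  have h1 := sub_J x h
  rw [map_mul] at h1
  have h2 : sub x k p = 0 := eq_zero_of_sub_mul x ⟨k, hk⟩ (by simpa [sub] using h1)
  simpa [h2] using sub_sub_mem x k p

/-- the ideals -/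
noncomputable def K (k q : ℕ) : Ideal S := J x k ⊔ m ^ q

/-- the quotients -/
abbrev W (k q : ℕ) : Type u := S ⧸ ((K x k q).restrictScalars A)

/-- uniform Artin-Rees for the relations -/
theorem exists_artinRees [IsNoetherianRing A] :
    ∃ c : ℕ, ∀ k ≤ t, ∀ q, m ^ q ⊓ J x k ≤ m ^ (q - c) * J x k := by
  have h : ∀ k : ℕ, ∃ c, ∀ q, m ^ q ⊓ J x k ≤ m ^ (q - c) * J x k := fun k => by
    obtain ⟨c, hc⟩ := (m).exists_pow_inf_eq_pow_smul (M := S) (J x k)
    refine ⟨c, fun q => ?_⟩
    rcases lt_or_ge q c with hq | hq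
    · rw [Nat.sub_eq_zero_of_le hq.le, pow_zero, Ideal.one_eq_top, Ideal.top_mul]
      exact inf_le_right
    · have := hc q hq
      simp only [smul_eq_mul, Ideal.mul_top] at this
      rw [this]
      exact Ideal.mul_mono le_rfl inf_le_right
  choose c hc using h
  refine ⟨(Finset.range (t + 1)).sup c, fun k hk q => (hc k q).trans (Ideal.mul_mono ?_ le_rfl)⟩
  exact Ideal.pow_le_pow_right (by
    have : c k ≤ (Finset.range (t + 1)).sup c := Finset.le_sup (Finset.mem_range.2 (by omega))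
    omega)

theorem mul_J_succ {k : ℕ} (hk : k < t) (M : Ideal S) {g : S} (hg : g ∈ M * J x (k + 1)) :
    ∃ j ∈ J x k, ∃ g' ∈ M, g = j + (X ⟨k, hk⟩ - C (x ⟨k, hk⟩)) * g' := by
  have hle : M * J x (k + 1) ≤ J x k ⊔ Ideal.span {X ⟨k, hk⟩ - C (x ⟨k, hk⟩)} * M := by
    rw [J_succ x hk, Ideal.mul_sup]
    exact sup_le_sup Ideal.mul_le_right (le_of_eq (Ideal.mul_comm _ _))
  obtain ⟨j, hj, w, hw, e⟩ := Submodule.mem_sup.1 (hle hg)
  obtain ⟨g', hg', e'⟩ := Ideal.mem_span_singleton_mul.1 hw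
  exact ⟨j, hj, g', hg', by rw [← e, ← e']⟩

/-- With `u = y_i` and `z_i ∈ J'`, a power of `x_i` turns `m^{q-c} J'` into `m^q J'`. -/
theorem pow_mul_mem {k : ℕ} (i : Fin t) (hi : (i : ℕ) < k) (c q : ℕ) {g : S}
    (hg : g ∈ m ^ (q - c) * J x k) (hgq : g ∈ m ^ q) : C (x i) ^ c * g ∈ m ^ q * J x k := by
  obtain ⟨w, hw⟩ := sub_dvd_pow_sub_pow (C (x i) : S) (X i) c
  have e : C (x i) ^ c * g = X i ^ c * g + (X i - C (x i)) * (-(w * g)) := by
    have : C (x i) ^ c = X i ^ c + (C (x i) - X i) * w := by rw [← hw]; ring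
    rw [this]; ring
  rw [e]
  refine add_mem ?_ ?_
  · have h1 : X i ^ c * g ∈ m ^ c * (m ^ (q - c) * J x k) :=
      Ideal.mul_mem_mul (Ideal.pow_mem_pow (Ideal.subset_span (Set.mem_range_self i)) c) hg
    rw [← mul_assoc, ← pow_add] at h1
    exact Ideal.mul_mono (Ideal.pow_le_pow_right (show q ≤ c + (q - c) by omega)) le_rfl h1
  · rw [mul_comm (m ^ q)]
    exact Ideal.mul_mem_mul (mem_J x hi) (neg_mem (Ideal.mul_mem_left _ _ hgq))

/-- the key annihilator bound -/
theorem ann_zero {c : ℕ} (hc : ∀ k ≤ t, ∀ q, m ^ q ⊓ J x k ≤ m ^ (q - c) * J x k) {k : ℕ} (hk : k < t) (q : ℕ)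
    {p : S} (h : (X ⟨k, hk⟩ - C (x ⟨k, hk⟩)) * p ∈ K x k q) : p ∈ K x k (q - c) := by
  obtain ⟨j, hj, g, hg, e⟩ := Submodule.mem_sup.1 h
  have hg' : g ∈ J x (k + 1) := by
    rw [eq_sub_of_add_eq' e]
    refine sub_mem (Ideal.mul_mem_right _ _ (mem_J x (Nat.lt_succ_self k))) ?_
    rw [J_succ x hk]; exact Ideal.mem_sup_left hj
  obtain ⟨j', hj', g', hg'', e'⟩ := mul_J_succ x hk _ (hc (k + 1) hk q ⟨hg, hg'⟩)
  have : p - g' ∈ J x k := mem_J_of_mul x hk (by
    have : (X ⟨k, hk⟩ - C (x ⟨k, hk⟩)) * (p - g') = j + j' := by rw [mul_sub, ← e, e']; ring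
    rw [this]; exact add_mem hj hj')
  have e2 : p = (p - g') + g' := by ring
  rw [e2]
  exact Submodule.add_mem_sup this hg''

theorem ann_smul {c : ℕ} (hc : ∀ k ≤ t, ∀ q, m ^ q ⊓ J x k ≤ m ^ (q - c) * J x k) {k : ℕ} (hk : k < t) (q : ℕ)
    {p : S} (h : (X ⟨k, hk⟩ - C (x ⟨k, hk⟩)) * p ∈ K x k q) :
    C (x ⟨0, by omega⟩) ^ c * p ∈ K x k q := by
  obtain ⟨j, hj, g, hg, e⟩ := Submodule.mem_sup.1 h
  have hg' : g ∈ J x (k + 1) := by
    rw [eq_sub_of_add_eq' e]
    refine sub_mem (Ideal.mul_mem_right _ _ (mem_J x (Nat.lt_succ_self k))) ?_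
    rw [J_succ x hk]; exact Ideal.mem_sup_left hj
  obtain ⟨j', hj', g', hg'', e'⟩ := mul_J_succ x hk _
    (pow_mul_mem x ⟨0, by omega⟩ (Nat.succ_pos k) c q (hc (k + 1) hk q ⟨hg, hg'⟩) hg)
  generalize C (x ⟨0, _⟩) ^ c = a at e' ⊢
  have : a * p - g' ∈ J x k := mem_J_of_mul x hk (by
    have : (X ⟨k, hk⟩ - C (x ⟨k, hk⟩)) * (a * p - g') = a * j + j' := by
      rw [mul_sub, mul_left_comm, ← e, mul_add, e']; ring
    rw [this]; exact add_mem (Ideal.mul_mem_left _ _ hj) hj')
  have e2 : a * p = (a * p - g') + g' := by ring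
  rw [e2]
  exact Submodule.add_mem_sup this hg''

instance flat_zero (q : ℕ) : Module.Flat A (W x 0 q) := by
  classical
  let T : S →ₗ[A] S := (basisMonomials (Fin t) A).constr A fun d => if d.degree < q then monomial d 1 else 0
  have hT : ∀ d a, T (monomial d a) = if d.degree < q then monomial d a else 0 := by
    intro d a
    have : monomial d a = a • (monomial d (1 : A)) := by rw [smul_monomial, smul_eq_mul, mul_one]
    rw [this, map_smul, show T (monomial d (1 : A)) = _ by
      simpa [T] using (basisMonomials (Fin t) A).constr_basis A (fun d => if d.degree < q then monomial d 1 else 0) d]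
    split_ifs <;> simp
  have hK : K x 0 q = m ^ q := by rw [K, J_zero, bot_sup_eq]
  have h1 : (K x 0 q).restrictScalars A ≤ LinearMap.ker T := by
    intro p hp
    rw [Submodule.restrictScalars_mem, hK, mem_pow_idealOfVars_iff] at hp
    rw [LinearMap.mem_ker, p.as_sum, map_sum]
    exact Finset.sum_eq_zero fun d hd => by rw [hT, if_neg (not_lt.2 (hp d hd))]
  have h2 : ∀ p : S, p - T p ∈ K x 0 q := by
    intro p
    rw [hK]
    induction p using MvPolynomial.induction_on' with
    | monomial d a =>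
      rw [hT]
      split_ifs with hd
      · simp
      · rw [sub_zero]
        by_cases ha : a = 0
        · simp [ha]
        · exact (monomial_mem_pow_idealOfVars_iff q d ha).2 (not_lt.1 hd)
    | add p p' hp hp' => rw [map_add, add_sub_add_comm]; exact add_mem hp hp'
  refine Module.Flat.of_retract (f := inferInstanceAs (Module.Flat A S))
    (Submodule.liftQ _ T h1) ((K x 0 q).restrictScalars A).mkQ ?_
  refine Submodule.linearMap_qext _ (LinearMap.ext fun p => ?_)
  show Submodule.Quotient.mk (T p) = Submodule.Quotient.mk p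
  exact ((Submodule.Quotient.eq _).2 (h2 p)).symm

theorem K_mono (k : ℕ) {q q' : ℕ} (h : q' ≤ q) : (K x k q).restrictScalars A ≤ (K x k q').restrictScalars A :=
  Submodule.restrictScalars_mono A (sup_le_sup_left (Ideal.pow_le_pow_right h) _)

theorem K_succ (k q : ℕ) : (K x k q).restrictScalars A ≤ (K x (k + 1) q).restrictScalars A := by
  have h : J x k ≤ J x (k + 1) :=
    Ideal.span_mono (Set.image_mono fun i (hi : (i : ℕ) < k) => Nat.lt_succ_of_lt hi)
  intro p hp
  exact (sup_le_sup_right h (m ^ q) : K x k q ≤ K x (k + 1) q) hp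

/-- multiplication by a polynomial on `W k q` -/
noncomputable def mulW (k q : ℕ) (f : S) : W x k q →ₗ[A] W x k q :=
  Submodule.mapQ _ _ (LinearMap.mulLeft A f) fun p hp => (K x k q).mul_mem_left f hp

/-- the projection `W k q → W (k+1) q` -/
noncomputable def projW (k q : ℕ) : W x k q →ₗ[A] W x (k + 1) q :=
  Submodule.mapQ _ _ LinearMap.id (K_succ x k q)

/-- the comparison with `A / I^q` -/
noncomputable def toW (q : ℕ) : (A ⧸ Ideal.span (Set.range x) ^ q) →ₗ[A] W x t q :=
  Submodule.mapQ _ _ (Algebra.linearMap A S) fun r hr => by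
    have hle : Ideal.span (Set.range x) ^ q ≤ (K x t q).comap (algebraMap A S) := by
      refine le_trans ?_ (show (Ideal.map (aeval x).toRingHom (m ^ q)) ≤ _ from Ideal.map_le_iff_le_comap.2 fun p hp => ?_)
      · rw [Ideal.map_pow, Ideal.map_span, ← Set.range_comp]
        refine Ideal.pow_right_mono (Ideal.span_mono ?_) q
        rintro _ ⟨i, rfl⟩
        exact ⟨i, by simp⟩
      · have hs : sub x t p = C (aeval x p) := by
          have : sub x t = (IsScalarTower.toAlgHom A A S).comp (aeval x) := MvPolynomial.algHom_ext fun i => by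
            simp [sub, i.2]
          rw [this]; rfl
        show algebraMap A S (aeval x p) ∈ K x t q
        rw [show algebraMap A S (aeval x p) = p - (p - sub x t p) by rw [sub_sub_cancel, hs]; rfl]
        exact sub_mem (Ideal.mem_sup_right hp) (Ideal.mem_sup_left (sub_sub_mem x t p))
    exact hle hr

theorem toW_injective (q : ℕ) : Function.Injective (toW x q) := by
  rw [← LinearMap.ker_eq_bot, eq_bot_iff]
  intro r hr
  obtain ⟨r, rfl⟩ := Submodule.Quotient.mk_surjective _ r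
  rw [Submodule.mem_bot, Submodule.Quotient.mk_eq_zero]
  have h : algebraMap A S r ∈ K x t q := (Submodule.Quotient.mk_eq_zero _).1 hr
  have hle : K x t q ≤ (Ideal.span (Set.range x) ^ q).comap (aeval x).toRingHom := by
    refine sup_le (Ideal.span_le.2 ?_) (Ideal.map_le_iff_le_comap.1 ?_)
    · rintro _ ⟨i, -, rfl⟩; simp
    · rw [Ideal.map_pow, Ideal.map_span, ← Set.range_comp]
      refine Ideal.pow_right_mono (Ideal.span_mono ?_) q
      rintro _ ⟨i, rfl⟩
      exact ⟨i, by simp⟩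
  simpa using hle h

theorem toW_surjective (q : ℕ) : Function.Surjective (toW x q) := by
  intro w
  obtain ⟨p, rfl⟩ := Submodule.Quotient.mk_surjective _ w
  refine ⟨Submodule.Quotient.mk (aeval x p), ((Submodule.Quotient.eq _).2 ?_)⟩
  have hs : sub x t p = algebraMap A S (aeval x p) := by
    have : sub x t = (IsScalarTower.toAlgHom A A S).comp (aeval x) := MvPolynomial.algHom_ext fun i => by
      simp [sub, i.2]
    rw [this]; rfl
  show algebraMap A S (aeval x p) - p ∈ K x t q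
  rw [← hs, ← neg_sub]
  exact neg_mem (Ideal.mem_sup_left (sub_sub_mem x t p))

/-- multiplication by the `k`-th relation -/
noncomputable def zW (k q : ℕ) : W x k q →ₗ[A] W x k q :=
  if h : k < t then mulW x k q (X ⟨k, h⟩ - C (x ⟨k, h⟩)) else 0

theorem projW_surjective (k q : ℕ) : Function.Surjective (projW x k q) := fun w => by
  obtain ⟨p, rfl⟩ := Submodule.Quotient.mk_surjective _ w
  exact ⟨Submodule.Quotient.mk p, rfl⟩

theorem exact_zW (k : ℕ) (hk : k < t) (q : ℕ) : Function.Exact (zW x k q) (projW x k q) := by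
  rw [zW, dif_pos hk]
  intro w
  obtain ⟨p, rfl⟩ := Submodule.Quotient.mk_surjective _ w
  constructor
  · intro h
    have hp : p ∈ K x (k + 1) q := (Submodule.Quotient.mk_eq_zero _).1 h
    rw [K, J_succ x hk, sup_right_comm] at hp
    obtain ⟨a, ha, b, hb, rfl⟩ := Submodule.mem_sup.1 hp
    obtain ⟨w, rfl⟩ := Ideal.mem_span_singleton'.1 hb
    refine ⟨Submodule.Quotient.mk w, (Submodule.Quotient.eq _).2 ?_⟩
    show (X ⟨k, hk⟩ - C (x ⟨k, hk⟩)) * w - (a + w * (X ⟨k, hk⟩ - C (x ⟨k, hk⟩))) ∈ K x k q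
    rw [show (X ⟨k, hk⟩ - C (x ⟨k, hk⟩)) * w - (a + w * (X ⟨k, hk⟩ - C (x ⟨k, hk⟩))) = -a by ring]
    exact neg_mem ha
  · rintro ⟨v, hv⟩
    obtain ⟨v, rfl⟩ := Submodule.Quotient.mk_surjective _ v
    refine (congrArg (projW x k q) hv.symm).trans ((Submodule.Quotient.mk_eq_zero _).2 ?_)
    exact Ideal.mul_mem_right _ _ (Ideal.mem_sup_left (mem_J x (Nat.lt_succ_self k)))

theorem null_family {σ : ℕ → ℕ} (s : ∀ k q, W x k q →ₗ[A] W x k (σ q))
    (hsz : ∀ k q f, mulW x k (σ q) f ∘ₗ s k q = s k q ∘ₗ mulW x k q f)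
    (hπs : ∀ k q, projW x k (σ q) ∘ₗ s k q = s (k + 1) q ∘ₗ projW x k q)
    (hann : ∀ (k : ℕ) (hk : k < t) q (p : S), (X ⟨k, hk⟩ - C (x ⟨k, hk⟩)) * p ∈ K x k q →
      s k q (Submodule.Quotient.mk p) = 0) :
    ∀ j, t ≤ j → ∀ q, Null j (it σ (fun n => W x t n) (s t) (2 ^ t - 1) q) := by
  refine null_chain t (fun k n => W x k n) s (zW x) (projW x) (fun n => flat_zero x n) ?_ (fun k _ => hπs k)
    (fun k _ => projW_surjective x k) (fun k hk => exact_zW x k hk) ?_ t le_rfl
  · intro k hk n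
    rw [zW, zW, dif_pos hk, dif_pos hk]
    exact hsz k n _
  · intro k hk q w hw
    rw [zW, dif_pos hk] at hw
    obtain ⟨p, rfl⟩ := Submodule.Quotient.mk_surjective _ w
    exact hann k hk q p ((Submodule.Quotient.mk_eq_zero _).1 hw)

end Groth.Agent.LocCoh.UniTor10
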